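import Mathlib
import Cfsg.Prelude.Def_CharExt
import Cfsg.Agent.H594.CosetSum
import Cfsg.Agent.CharactersDeep.CosetAverage
import Cfsg.Agent.Characters.GaloisIrr
import Cfsg.Agent.S0867
import Cfsg.Agent.S0135
set_option linter.all false

/-!
# The Glauberman correspondence for a cyclic group of operators (helper594)

* `degree_dvd`, `detOrder_dvd`, `detOrder_map`: the degree and the determinantal order divide the group order, Galois
  conjugates have the same determinantal order;
* `canonical_pow`: a canonical extension has `χ (x ^ m) = χ x` if `m ≡ 1` modulo `#G`, `m` coprime to `#Γ`;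
* `isCharacter_partial`: partial inner products of a character of a direct product;
* `core`: `χ̂ (c s) = ε β (c)`.
-/

set_option autoImplicit false
open Cfsg

namespace Cfsg.Agent.H594.Cyclic

open Cfsg.Agent.Characters.Core Cfsg.Agent.CharactersDeep.CosetAverage
open scoped ComplexConjugate

theorem degree_dvd {G : Type*} [Group G] [Finite G] {χ : G → ℂ} (hχ : IsIrrCharacter G χ) {n : ℕ}
    (hn : χ 1 = n) : n ∣ Nat.card G := by
  obtain ⟨m, ρ, hρ, rfl⟩ := hχ
  have h1 : m = n := by
    have : ρ.character 1 = m := by simp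
    rw [this] at hn
    exact_mod_cast hn
  subst h1
  have := hρ
  have h2 := Cfsg.Agent.S0135.result ρ
  simpa using h2

theorem detOrder_dvd {G : Type*} [Group G] [Finite G] {χ : G → ℂ} (hχ : IsIrrCharacter G χ) :
    detOrder χ ∣ Nat.card G := by
  obtain ⟨δ, hδ⟩ := Cfsg.Agent.CharactersDeep.ExtUnique.exists_hom_detChar hχ
  show orderOf (detChar χ) ∣ Nat.card G
  apply orderOf_dvd_of_pow_eq_one
  funext g
  rw [Pi.pow_apply, hδ, ← Units.val_pow_eq_pow_val, ← map_pow, pow_card_eq_one']
  simp

theorem detOrder_map {G : Type*} [Group G] [Finite G] (σ : ℂ ≃+* ℂ) {χ : G → ℂ} (hχ : IsIrrCharacter G χ) :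
    detOrder (fun g => σ (χ g)) = detOrder χ := by
  have hχ' := Cfsg.Agent.Characters.GaloisIrr.isIrr_map σ hχ
  obtain ⟨n, ρ, hρ, rfl⟩ := hχ
  have e1 : (fun g => σ (ρ.character g)) = (Cfsg.Agent.Characters.GaloisBasic.twist σ ρ).character :=
    funext fun g => (Cfsg.Agent.Characters.GaloisBasic.twist_character σ ρ g).symm
  rw [e1] at hχ' ⊢
  have h2 := isIrreducible_of_isIrrCharacter _ hχ'
  have h3 : detChar (Cfsg.Agent.Characters.GaloisBasic.twist σ ρ).character =
      fun g => σ (detChar ρ.character g) := by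
    rw [Cfsg.Agent.CharactersDeep.ExtUnique.detChar_of_rep _ h2,
      Cfsg.Agent.CharactersDeep.ExtUnique.detChar_of_rep _ hρ]
    funext g
    show LinearMap.det (Matrix.toLin' ((LinearMap.toMatrix' (ρ g)).map σ)) = σ (LinearMap.det (ρ g))
    rw [LinearMap.det_toLin']
    conv_rhs => rw [← Matrix.toLin'_toMatrix' (ρ g), LinearMap.det_toLin']
    exact (RingEquiv.map_det σ _).symm
  show orderOf (detChar (Cfsg.Agent.Characters.GaloisBasic.twist σ ρ).character) = orderOf (detChar ρ.character)
  rw [h3]
  let F : (G → ℂ) →* (G → ℂ) :=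
    { toFun := fun f g => σ (f g)
      map_one' := by funext g; simp
      map_mul' := fun a b => by funext g; simp }
  exact orderOf_injective F (fun a b h => funext fun g => σ.injective (congrFun h g)) _

/-- The canonical extension is invariant under the power maps fixing `G`. -/
theorem canonical_pow {Γ : Type*} [Group Γ] [Finite Γ] (G : Subgroup Γ) [hGn : G.Normal] {χh : Γ → ℂ}
    (hχh : IsIrrCharacter Γ χh) (hres : IsIrrCharacter G (fun g : G => χh g))
    (hcop : (Nat.card G).Coprime G.index) (hdet : (detOrder χh).Coprime G.index) {m : ℕ}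
    (hm : m.Coprime (Nat.card Γ)) (hm1 : m ≡ 1 [MOD Nat.card G]) (x : Γ) : χh (x ^ m) = χh x := by
  obtain ⟨d, hd0, hd⟩ := isIrr_apply_one hres
  have hcop' : Nat.Coprime G.index (detOrder (fun g : G => χh g) * d) := by
    apply Nat.Coprime.mul_right
    · exact (Nat.Coprime.coprime_dvd_left (detOrder_dvd hres) hcop).symm
    · exact (Nat.Coprime.coprime_dvd_left (degree_dvd hres hd) hcop).symm
  obtain ⟨χ0, -, huniq⟩ := Cfsg.Agent.S0867.result G (fun g : G => χh g) hres (by
    intro g n
    exact isIrr_isClassFunction hχh n g) d hd hcop'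
  have h1 := huniq χh hχh (fun _ => rfl) hdet.symm
  obtain ⟨σ, hσ⟩ := Cfsg.Agent.Characters.GaloisBasic.exists_ringEquiv_of_coprime (G := Γ) hm
  have hfun : (fun g => σ (χh g)) = fun g => χh (g ^ m) := funext fun g => hσ χh (isIrr_isCharacter hχh) g
  have h2 := huniq (fun g => χh (g ^ m)) (by
      rw [← hfun]; exact Cfsg.Agent.Characters.GaloisIrr.isIrr_map σ hχh) (by
      intro g
      show χh ((g : Γ) ^ m) = χh g
      have h3 : (g : Γ) ^ m = g := by
        have h4 : m ≡ 1 [MOD orderOf (g : Γ)] := by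
          refine hm1.of_dvd ?_
          have := orderOf_dvd_natCard g
          rwa [← Subgroup.orderOf_coe] at this
        rw [← pow_mod_orderOf, h4, pow_mod_orderOf, pow_one]
      rw [h3]) (by
      rw [← hfun, detOrder_map σ hχh]
      exact hdet.symm)
  exact congrFun (h2.trans h1.symm) x

/-- Partial inner products of a character of a direct product. -/
theorem isCharacter_partial {C S : Type*} [Group C] [Group S] [Fintype C] [Finite S] {X : C × S → ℂ}
    (hX : IsCharacter (C × S) X) {ψ : C → ℂ} (hψ : IsCharacter C ψ) :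
    IsCharacter S (fun t => classInner (fun c => X (c, t)) ψ) := by
  classical
  let N : Subgroup (C × S) := (MonoidHom.snd C S).ker
  have : Fintype N := Fintype.ofFinite N
  have h1 : IsCharacter (C × S) (X * ((fun c => conj (ψ c)) ∘ (MonoidHom.fst C S))) :=
    isCharacter_mul hX (isCharacter_comp (MonoidHom.fst C S) (isCharacter_conj hψ))
  have h2 := isCharacter_comp (MonoidHom.inr C S) (isCharacter_cosetAverage N h1)
  let e : N ≃ C :=
    { toFun := fun n => n.1.1
      invFun := fun c => ⟨(c, 1), rfl⟩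
      left_inv := fun n => by
        have h3 : n.1.2 = 1 := n.2
        apply Subtype.ext
        exact Prod.ext rfl h3.symm
      right_inv := fun c => rfl }
  convert h2 using 1
  funext t
  show (Nat.card C : ℂ)⁻¹ * ∑ c : C, X (c, t) * conj (ψ c) =
    (Nat.card N : ℂ)⁻¹ * ∑ n : N, X ((n : C × S) * (1, t)) * conj (ψ ((n : C × S) * ((1 : C), t)).1)
  rw [Nat.card_congr e]
  congr 1
  symm
  refine Fintype.sum_equiv e _ _ (fun n => ?_)
  have h3 : n.1.2 = 1 := n.2
  have h4 : (n : C × S) * (1, t) = (e n, t) := by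
    refine Prod.ext ?_ ?_
    · show n.1.1 * 1 = n.1.1
      rw [mul_one]
    · show n.1.2 * t = t
      rw [h3, one_mul]
  rw [h4]

/-- a character with `f 1 = 0` is zero -/
theorem eq_zero_of_apply_one {S : Type*} [Group S] {f : S → ℂ} (hf : IsCharacter S f) (h : f 1 = 0) : f = 0 := by
  obtain ⟨n, ρ, rfl⟩ := hf
  have h1 : ρ.character 1 = n := by simp
  rw [h1] at h
  have h2 : n = 0 := by exact_mod_cast h
  subst h2
  funext g
  have : ρ g = 0 := by ext x i; exact i.elim0
  show LinearMap.trace ℂ _ (ρ g) = 0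
  rw [this, map_zero]

/-- **The values of the canonical extension on the coset of a generator.** -/
theorem core {Γ : Type*} [Group Γ] [Fintype Γ] (G S : Subgroup Γ) [Fintype G] [G.Normal]
    (hcop : (Nat.card G).Coprime (Nat.card S)) (hidx : G.index = Nat.card S) (C : Subgroup Γ) [Fintype C]
    (hC : C = G ⊓ Subgroup.centralizer (S : Set Γ)) {χh : Γ → ℂ} (hχh : IsIrrCharacter Γ χh)
    (hres : IsIrrCharacter G (fun g : G => χh g)) (hdet : (detOrder χh).Coprime (Nat.card S)) {s : Γ}
    (hs : Subgroup.zpowers s = S) :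
    ∃ (β : IrrCharacter C) (ε : ℤ), (ε = 1 ∨ ε = -1) ∧
      (∀ c : C, ∀ t : Γ, Subgroup.zpowers t = S → χh ((c : Γ) * t) = (ε : ℂ) * (β : C → ℂ) c) ∧
      classInner (fun c : C => χh c) (β : C → ℂ) ≠ 0 := by
  classical
  have hsS : s ∈ S := hs ▸ Subgroup.mem_zpowers s
  have hCG : C ≤ G := hC ▸ inf_le_left
  have hCS : ∀ c ∈ C, ∀ t ∈ S, c * t = t * c := by
    intro c hc t ht
    rw [hC] at hc
    exact (Subgroup.mem_centralizer_iff.1 hc.2 t ht).symm
  have hcardΓ : Nat.card Γ = Nat.card G * Nat.card S := by rw [← hidx, Subgroup.card_mul_index]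
  have hcfχ := isIrr_isClassFunction hχh
  -- the powers of `s`
  have hpow : ∀ m : ℕ, m.Coprime (Nat.card S) → ∀ c ∈ C, ∀ t ∈ S, χh (c * t ^ m) = χh (c * t) := by
    intro m hm c hc t ht
    obtain ⟨k, hk1, hkm⟩ : ∃ k : ℕ, k ≡ 1 [MOD Nat.card G] ∧ k ≡ m [MOD Nat.card S] :=
      ⟨_, (Nat.chineseRemainder hcop 1 m).2⟩
    have hkc : k.Coprime (Nat.card Γ) := by
      rw [hcardΓ]
      apply Nat.Coprime.mul_right
      · show Nat.gcd k (Nat.card G) = 1
        rw [hk1.gcd_eq, Nat.gcd_one_left]
      · show Nat.gcd k (Nat.card S) = 1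
        rw [hkm.gcd_eq]
        exact hm
    have h1 := canonical_pow G hχh hres (by rw [hidx]; exact hcop) (by rw [hidx]; exact hdet) hkc hk1 (c * t)
    rw [← h1]
    congr 1
    rw [(show Commute c t from hCS c hc t ht).mul_pow]
    have h2 : c ^ k = c := by
      have h4 : k ≡ 1 [MOD orderOf c] := by
        refine hk1.of_dvd ?_
        have := orderOf_dvd_natCard (⟨c, hCG hc⟩ : G)
        rwa [Subgroup.orderOf_mk] at this
      rw [← pow_mod_orderOf, h4, pow_mod_orderOf, pow_one]
    have h3 : t ^ k = t ^ m := by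
      have h4 : k ≡ m [MOD orderOf t] := by
        refine hkm.of_dvd ?_
        have := orderOf_dvd_natCard (⟨t, ht⟩ : S)
        rwa [Subgroup.orderOf_mk] at this
      rw [← pow_mod_orderOf, h4, pow_mod_orderOf]
    rw [h2, h3]
  -- the restriction to `C × S`
  let φ : C × S →* Γ := MonoidHom.noncommCoprod C.subtype S.subtype (fun c t => hCS c c.2 t t.2)
  have hφ : ∀ c t, φ (c, t) = (c : Γ) * t := fun c t => rfl
  have hX : IsCharacter (C × S) (χh ∘ φ) := isCharacter_comp φ (isIrr_isCharacter hχh)
  set b : C → ℂ := fun c => χh ((c : Γ) * s) with hb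
  have hbc : IsClassFunction C b := by
    intro c d
    show χh (((d * c * d⁻¹ : C) : Γ) * s) = χh (c * s)
    have h1 : ((d * c * d⁻¹ : C) : Γ) * s = d * (c * s) * (d : Γ)⁻¹ := by
      have h2 := hCS _ (C.inv_mem d.2) s hsS
      push_cast
      calc (d : Γ) * c * (d : Γ)⁻¹ * s = d * c * ((d : Γ)⁻¹ * s) := by group
        _ = _ := by rw [h2]; group
    rw [h1]
    exact hcfχ _ _
  have hint : ∀ ψ : IrrCharacter C, ∃ k : ℤ, classInner b (ψ : C → ℂ) = k := by
    intro ψ
    have hf := isCharacter_partial hX (isIrr_isCharacter ψ.2)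
    have h1 : ∃ k : ℤ, (fun t => classInner (fun c => (χh ∘ φ) (c, t)) (ψ : C → ℂ)) (⟨s, hsS⟩ : S) = k := by
      apply Cfsg.Agent.Characters.GaloisBasic.exists_int_of_rat hf
      rw [Cfsg.Agent.Characters.GaloisBasic.exists_rat_iff hf]
      intro m hm
      show classInner _ _ = classInner _ _
      congr 1
      funext c
      exact hpow m hm c c.2 s hsS
    exact h1
  have hbg : IsGeneralizedCharacter C b := by
    have := finite_irr (G := C)
    have := Fintype.ofFinite (IrrCharacter C)
    rw [isGeneralizedCharacter_iff]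
    choose k hk using hint
    refine ⟨k, ?_⟩
    conv_lhs => rw [classFunction_eq_sum hbc]
    refine Finset.sum_congr rfl fun ψ _ => ?_
    rw [hk, Int.cast_smul_eq_zsmul]
  have hnorm1 : classInner b b = 1 := by
    have h1 := CosetSum.coset_sum (G := G) (S := S) (C := C)
      (fun t _ g hg => ‹G.Normal›.conj_mem g hg t) hcop hC hs (fun x => χh x * conj (χh x)) (by
        intro x _ y
        simp only [hcfχ y x])
    rw [cosetAverage_self G χh hχh hres s] at h1
    exact h1.symm
  -- the sign
  obtain ⟨β, ε, hε, hβ⟩ : ∃ (β : IrrCharacter C) (ε : ℤ), (ε = 1 ∨ ε = -1) ∧ ∀ c, b c = (ε : ℂ) * (β : C → ℂ) c := by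
    rcases isIrr_of_generalized hbg hnorm1 with h | h
    · exact ⟨⟨b, h⟩, 1, Or.inl rfl, fun c => by simp⟩
    · exact ⟨⟨-b, h⟩, -1, Or.inr rfl, fun c => by simp⟩
  refine ⟨β, ε, hε, ?_, ?_⟩
  · intro c t ht
    have htS : t ∈ Subgroup.zpowers s := by rw [hs, ← ht]; exact Subgroup.mem_zpowers t
    rw [← hβ]
    show χh (c * t) = χh (c * s)
    rw [← mem_powers_iff_mem_zpowers] at htS
    obtain ⟨m, hm⟩ := htS
    have hm' : s ^ m = t := hm
    have hos : orderOf s = Nat.card S := by rw [← hs, Nat.card_zpowers]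
    have hot : orderOf t = Nat.card S := by rw [← ht, Nat.card_zpowers]
    have hmc : m.Coprime (Nat.card S) := by
      have h1 : orderOf (s ^ m) = orderOf s / (orderOf s).gcd m := orderOf_pow s
      rw [hm', hos, hot] at h1
      have hpos : 0 < Nat.card S := Nat.card_pos
      have hg0 : 0 < (Nat.card S).gcd m := Nat.gcd_pos_of_pos_left _ hpos
      by_contra hne
      have h2 : 1 < (Nat.card S).gcd m := by
        have h3 : (Nat.card S).gcd m ≠ 1 := by
          rw [Nat.gcd_comm]
          exact hne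
        omega
      have h3 := Nat.div_lt_self hpos h2
      omega
    rw [← hm']
    exact hpow m hmc c c.2 s hsS
  · have hf := isCharacter_partial hX (isIrr_isCharacter β.2)
    intro h0
    have h1 := eq_zero_of_apply_one hf (by
      rw [← h0]
      show classInner _ _ = classInner _ _
      congr 1
      funext c
      show χh ((c : Γ) * ((1 : S) : Γ)) = χh c
      rw [OneMemClass.coe_one, mul_one])
    have h2 := congrFun h1 (⟨s, hsS⟩ : S)
    have h3 : classInner b (β : C → ℂ) = 0 := h2
    have h4 : b = (ε : ℂ) • (β : C → ℂ) := funext hβ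
    rw [h4, classInner_smul_left, classInner_irr_self β.2, mul_one] at h3
    rcases hε with h | h <;> rw [h] at h3 <;> norm_num at h3

end Cfsg.Agent.H594.Cyclic
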