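import Mathlib
import Cfsg.Agent.H594.Glau
import Cfsg.Agent.CharactersDeep.IndFun
set_option linter.all false

/-!
# Coprime action on irreducible characters: going up (helper594)

* `exists_linear_mul`: two irreducible characters of `G` with a common constituent on `N`, `G/N` commutative,
  differ by a linear character of `G/N`.
* `exists_above_of_comm`, `exists_above`: an `S`-invariant irreducible character of `N` lies under an
  `S`-invariant one of `G` if `G/N` is solvable and `(#S, [G:N]) = 1`.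
-/

set_option autoImplicit false
open Cfsg

namespace Cfsg.Agent.H594.Glau

open Cfsg.Agent.Characters.Core Cfsg.Agent.Characters.Clifford
open Cfsg.Agent.CharactersDeep.AbelianQuotient Cfsg.Agent.CharactersDeep.IndFun
open scoped ComplexConjugate

section
variable {G : Type*} [Group G] [Fintype G]

/-- The inner product of restrictions to a normal subgroup with commutative quotient. -/
theorem classInner_restrict_eq_sum (N : Subgroup G) [Fintype N]
    {χ ψ : G → ℂ} (Λ : Finset (G →* ℂˣ))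
    (h1 : ∀ g ∈ N, ∑ l ∈ Λ, (l g : ℂ) = N.index) (h2 : ∀ g ∉ N, ∑ l ∈ Λ, (l g : ℂ) = 0) :
    classInner (fun n : N => χ n) (fun n : N => ψ n) =
      ∑ l ∈ Λ, classInner ((fun g => (l g : ℂ)) * χ) ψ := by
  classical
  have hN0 : (Nat.card N : ℂ) ≠ 0 := Nat.cast_ne_zero.2 Nat.card_pos.ne'
  have hI0 : (N.index : ℂ) ≠ 0 := Nat.cast_ne_zero.2 Subgroup.index_ne_zero_of_finite
  have hG0 : (Nat.card G : ℂ) ≠ 0 := Nat.cast_ne_zero.2 Nat.card_pos.ne'
  have e1 : (N.index : ℂ) * ∑ n : N, χ n * conj (ψ n) =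
      ∑ g : G, (∑ l ∈ Λ, (l g : ℂ)) * (χ g * conj (ψ g)) := by
    have e0 : ∑ g ∈ Finset.univ.filter (fun g => g ∈ N), (∑ l ∈ Λ, (l g : ℂ)) *
        (χ g * conj (ψ g)) = ∑ g ∈ Finset.univ.filter (fun g => g ∈ N),
          (N.index : ℂ) * (χ g * conj (ψ g)) :=
      Finset.sum_congr rfl (fun g hg => by rw [h1 g (by simpa using hg)])
    rw [← Finset.sum_filter_add_sum_filter_not Finset.univ (fun g => g ∈ N)]
    rw [Finset.sum_eq_zero (s := Finset.univ.filter (fun g => ¬ g ∈ N)), add_zero,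
      Finset.mul_sum, e0]
    · exact (Finset.sum_subtype (p := fun g => g ∈ N) (Finset.univ.filter (fun g => g ∈ N))
        (by simp) (fun g => (N.index : ℂ) * (χ g * conj (ψ g)))).symm
    · intro g hg
      rw [h2 g (by simpa using hg), zero_mul]
  have e2 : ∑ g : G, (∑ l ∈ Λ, (l g : ℂ)) * (χ g * conj (ψ g)) =
      (Nat.card G : ℂ) * ∑ l ∈ Λ, classInner ((fun g => (l g : ℂ)) * χ) ψ := by
    rw [Finset.mul_sum]
    simp only [Finset.sum_mul]
    rw [Finset.sum_comm]
    refine Finset.sum_congr rfl (fun l _ => ?_)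
    show _ = (Nat.card G : ℂ) * ((Nat.card G : ℂ)⁻¹ * ∑ g : G, ((l g : ℂ) * χ g) * conj (ψ g))
    rw [← mul_assoc, mul_inv_cancel₀ hG0, one_mul]
    exact Finset.sum_congr rfl (fun g _ => by ring)
  have e4 : (Nat.card G : ℂ) = (Nat.card N : ℂ) * (N.index : ℂ) := by
    rw [← Nat.cast_mul, Subgroup.card_mul_index]
  show (Nat.card N : ℂ)⁻¹ * ∑ n : N, χ n * conj (ψ n) = _
  have e5 : (N.index : ℂ) * ∑ n : N, χ n * conj (ψ n) = (N.index : ℂ) * ((Nat.card N : ℂ) *
      ∑ l ∈ Λ, classInner ((fun g => (l g : ℂ)) * χ) ψ) := by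
    rw [e1, e2, e4]
    ring
  rw [mul_left_cancel₀ hI0 e5, ← mul_assoc, inv_mul_cancel₀ hN0, one_mul]

/-- characters with a common irreducible constituent are not orthogonal -/
theorem inner_ne_zero_of_common {χ ψ θ : G → ℂ} (hχ : IsCharacter G χ) (hψ : IsCharacter G ψ)
    (hθ : IsIrrCharacter G θ) (h1 : classInner χ θ ≠ 0) (h2 : classInner ψ θ ≠ 0) : classInner χ ψ ≠ 0 := by
  classical
  have := finite_irr (G := G)
  have := Fintype.ofFinite (IrrCharacter G)
  obtain ⟨a, rfl⟩ := exists_nat_comb hχ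
  obtain ⟨b, rfl⟩ := exists_nat_comb hψ
  have e1 := classInner_sum_nsmul_irr a ⟨θ, hθ⟩
  have e2 := classInner_sum_nsmul_irr b ⟨θ, hθ⟩
  rw [e1] at h1
  rw [e2] at h2
  have e3 : classInner (∑ ψ : IrrCharacter G, a ψ • (ψ : G → ℂ)) (∑ ψ : IrrCharacter G, b ψ • (ψ : G → ℂ)) =
      ((∑ ψ : IrrCharacter G, a ψ * b ψ : ℕ) : ℂ) := by
    have := classInner_sum_smul_sum_smul (fun ψ : IrrCharacter G => (a ψ : ℂ)) (fun ψ => (b ψ : ℂ))
    simp only [Nat.cast_smul_eq_nsmul] at this
    rw [this]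
    push_cast
    simp
  rw [e3, Nat.cast_ne_zero]
  intro h0
  have := Finset.sum_eq_zero_iff.1 h0 ⟨θ, hθ⟩ (Finset.mem_univ _)
  rcases mul_eq_zero.1 this with h | h
  · exact h1 (by rw [h]; simp)
  · exact h2 (by rw [h]; simp)

/-- Two irreducible characters of `G` with a common constituent on `N`, `G/N` commutative, differ by a linear
character of `G/N`. -/
theorem exists_linear_mul (N : Subgroup G) [N.Normal] [Fintype N] (hab : ∀ x y : G, x * y * x⁻¹ * y⁻¹ ∈ N)
    {χ ψ : G → ℂ} (hχ : IsIrrCharacter G χ) (hψ : IsIrrCharacter G ψ) {θ : N → ℂ} (hθ : IsIrrCharacter N θ)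
    (h1 : classInner (fun n : N => χ n) θ ≠ 0) (h2 : classInner (fun n : N => ψ n) θ ≠ 0) :
    ∃ l : G →* ℂˣ, (∀ n ∈ N, l n = 1) ∧ ψ = (fun g => (l g : ℂ)) * χ := by
  classical
  obtain ⟨Λ, hΛ, -, hΛ1, hΛ2⟩ := exists_linear_dual N hab
  have h3 := inner_ne_zero_of_common (isCharacter_restrict N (isIrr_isCharacter hχ))
    (isCharacter_restrict N (isIrr_isCharacter hψ)) hθ h1 h2
  rw [classInner_restrict_eq_sum N Λ hΛ1 hΛ2] at h3
  obtain ⟨l, hl, hl2⟩ := Finset.exists_ne_zero_of_sum_ne_zero h3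
  refine ⟨l, (hΛ l).1 hl, ?_⟩
  by_contra hne
  exact hl2 (classInner_irr_ne (isIrr_linear_mul l hχ) hψ (fun h => hne h.symm))

/-- Twisting by linear characters. -/
noncomputable def twPerm (G : Type*) [Group G] [Finite G] : (G →* ℂˣ) →* Equiv.Perm (IrrCharacter G) where
  toFun l :=
    { toFun := fun χ => ⟨(fun g => (l g : ℂ)) * χ.1, by
        have := Fintype.ofFinite G
        exact isIrr_linear_mul l χ.2⟩
      invFun := fun χ => ⟨(fun g => (l⁻¹ g : ℂˣ).1) * χ.1, by
        have := Fintype.ofFinite G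
        exact isIrr_linear_mul l⁻¹ χ.2⟩
      left_inv := fun χ => by
        apply Subtype.ext
        funext g
        simp
      right_inv := fun χ => by
        apply Subtype.ext
        funext g
        simp }
  map_one' := by
    ext χ g
    simp
  map_mul' e f := by
    ext χ g
    simp [mul_assoc]

theorem twPerm_apply {G : Type*} [Group G] [Finite G] (l : G →* ℂˣ) (χ : IrrCharacter G) (g : G) :
    (twPerm G l χ : G → ℂ) g = (l g : ℂ) * (χ : G → ℂ) g := rfl

/-- The linear characters trivial on `N`. -/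
def dualSub {G : Type*} [Group G] (N : Subgroup G) : Subgroup (G →* ℂˣ) where
  carrier := {l | ∀ n ∈ N, l n = 1}
  one_mem' := fun n _ => rfl
  mul_mem' := by
    intro a b ha hb n hn
    rw [MonoidHom.mul_apply, ha n hn, hb n hn, one_mul]
  inv_mem' := by
    intro a ha n hn
    rw [MonoidHom.inv_apply, ha n hn, inv_one]

theorem mem_dualSub {G : Type*} [Group G] {N : Subgroup G} {l : G →* ℂˣ} :
    l ∈ dualSub N ↔ ∀ n ∈ N, l n = 1 := Iff.rfl

theorem card_dualSub (N : Subgroup G) [N.Normal] (hab : ∀ x y : G, x * y * x⁻¹ * y⁻¹ ∈ N) :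
    Nat.card (dualSub N) = N.index := by
  obtain ⟨Λ, hΛ, hc, -, -⟩ := exists_linear_dual N hab
  rw [← hc]
  have : (dualSub N : Set (G →* ℂˣ)) = (Λ : Set (G →* ℂˣ)) := by
    ext l
    exact (hΛ l).symm
  have h2 : Nat.card (dualSub N) = Nat.card (Λ : Set (G →* ℂˣ)) := by
    rw [← this]; rfl
  rw [h2]
  simp

/-- There is an irreducible character over a given one. -/
theorem exists_over (N : Subgroup G) [Fintype N] (θ : IrrCharacter N) :
    ∃ χ : IrrCharacter G, classInner (fun n : N => (χ : G → ℂ) n) (θ : N → ℂ) ≠ 0 := by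
  obtain ⟨χ, hχ⟩ := exists_irr (isClassFunction_indFun N (θ : N → ℂ)) (by
    intro h0
    have h1 := classInner_indFun N (θ : N → ℂ) (indFun N (θ : N → ℂ)) (isClassFunction_indFun N _)
    have h2 := congrFun h0 1
    rw [Cfsg.Agent.CharactersDeep.IndFun.indFun_def] at h2
    have h3 : ∀ x : G, extendByZero N (θ : N → ℂ) (x⁻¹ * 1 * x) = (θ : N → ℂ) 1 := by
      intro x
      have h4 : x⁻¹ * 1 * x = 1 := by group
      rw [h4]
      exact extendByZero_mem N _ N.one_mem
    rw [Finset.sum_congr rfl (fun x _ => h3 x)] at h2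
    simp only [Finset.sum_const, Finset.card_univ, nsmul_eq_mul, Pi.zero_apply, mul_eq_zero, inv_eq_zero,
      Nat.cast_eq_zero] at h2
    rcases h2 with h2 | h2 | h2
    · exact Nat.card_pos.ne' h2
    · exact Fintype.card_ne_zero h2
    · exact isIrr_apply_one_ne_zero θ.2 h2)
  refine ⟨χ, ?_⟩
  rw [classInner_indFun N _ _ (isIrr_isClassFunction χ.2)] at hχ
  intro h0
  apply hχ
  rw [← classInner_conj_symm, h0, map_zero]

end

/-- **The abelian step.** -/
theorem exists_above_of_comm {Γ : Type*} [Group Γ] [Finite Γ] (G S N : Subgroup Γ) [Fintype G] [Fintype N]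
    (hnorm : ∀ s ∈ S, ∀ g ∈ G, s * g * s⁻¹ ∈ G) (hNG : N ≤ G) [hNn : (N.subgroupOf G).Normal]
    (hNS : ∀ s ∈ S, ∀ n ∈ N, s * n * s⁻¹ ∈ N) (hcop : (N.relIndex G).Coprime (Nat.card S))
    (hab : ∀ x y : G, x * y * x⁻¹ * y⁻¹ ∈ N.subgroupOf G) (θ : IrrCharacter N)
    (hinv : ∀ s ∈ S, ∀ g g' : N, (g' : Γ) = s * g * s⁻¹ → (θ : N → ℂ) g' = (θ : N → ℂ) g) :
    ∃ χ : IrrCharacter G, classInner (fun n : N => (χ : G → ℂ) ⟨n, hNG n.2⟩) (θ : N → ℂ) ≠ 0 ∧
      (∀ s ∈ S, ∀ g g' : G, (g' : Γ) = s * g * s⁻¹ → (χ : G → ℂ) g' = (χ : G → ℂ) g) := by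
  classical
  have hfin := finite_irr (G := G)
  set e := Subgroup.subgroupOfEquivOfLe hNG with he
  let θ' : IrrCharacter (N.subgroupOf G) := ⟨(θ : N → ℂ) ∘ e, isIrr_comp e.toMonoidHom e.surjective θ.2⟩
  have hover : ∀ χ : IrrCharacter G, classInner (fun n : N.subgroupOf G => (χ : G → ℂ) n) (θ' : N.subgroupOf G → ℂ) =
      classInner (fun n : N => (χ : G → ℂ) ⟨n, hNG n.2⟩) (θ : N → ℂ) := fun χ => inner_subgroupOf G N hNG _ _
  set f : S →* Equiv.Perm (IrrCharacter G) := (autPerm G).comp (conjAut G S hnorm) with hf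
  set h : dualSub (N.subgroupOf G) →* Equiv.Perm (IrrCharacter G) :=
    (twPerm G).comp (dualSub (N.subgroupOf G)).subtype with hh
  have hcardh : Nat.card h.range ∣ N.relIndex G := by
    have h1 := Subgroup.card_range_dvd h
    rwa [card_dualSub _ hab] at h1
  have hθs : ∀ s : S, autPerm N (conjAut N S hNS s) θ = θ := (invariant_iff N S hNS θ).1 hinv
  have hS : ∀ (s : S) (χ : IrrCharacter G), classInner (fun n : N => (f s χ : G → ℂ) ⟨n, hNG n.2⟩) (θ : N → ℂ) =
      classInner (fun n : N => (χ : G → ℂ) ⟨n, hNG n.2⟩) (θ : N → ℂ) := by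
    intro s χ
    have h1 := classInner_comp_mulEquiv (conjAut N S hNS s) (fun n : N => (f s χ : G → ℂ) ⟨n, hNG n.2⟩) (θ : N → ℂ)
    rw [← h1]
    congr 1
    · funext n
      exact autPerm_apply_apply (conjAut G S hnorm s) χ ⟨n, hNG n.2⟩
    · funext n
      exact hinv s s.2 n _ rfl
  obtain ⟨χ0, hχ0⟩ := exists_over (N.subgroupOf G) θ'
  have hsol : Group.IsSolvable h.range := by
    have : Group.IsSolvable (dualSub (N.subgroupOf G)) := inferInstance
    exact Group.isSolvable_of_surjective (f := h.rangeRestrict) h.rangeRestrict_surjective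
  obtain ⟨l, hl⟩ := perm_fixed f h (by
      intro s l
      have hmem : (l : G →* ℂˣ).comp ((conjAut G S hnorm s)⁻¹ : MulAut G).toMonoidHom ∈ dualSub (N.subgroupOf G) := by
        intro n hn
        have h1 : ((conjAut G S hnorm s)⁻¹ : MulAut G) n ∈ N.subgroupOf G := by
          rw [← map_inv]
          exact hNS _ (S.inv_mem s.2) n hn
        exact l.2 _ h1
      refine ⟨⟨_, hmem⟩, ?_⟩
      ext χ g
      obtain ⟨g0, rfl⟩ := (conjAut G S hnorm s).surjective g
      have e1 : ((f s * h l * (f s)⁻¹ : Equiv.Perm (IrrCharacter G)) χ : G → ℂ) (conjAut G S hnorm s g0) =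
          (h l ((f s)⁻¹ χ) : G → ℂ) g0 := autPerm_apply_apply _ _ _
      have e2 : (h l ((f s)⁻¹ χ) : G → ℂ) g0 = ((l : G →* ℂˣ) g0 : ℂ) * ((f s)⁻¹ χ : G → ℂ) g0 := rfl
      have e3 : ((f s)⁻¹ χ : G → ℂ) g0 = (χ : G → ℂ) (conjAut G S hnorm s g0) := by
        have : (f s)⁻¹ = autPerm G (conjAut G S hnorm s)⁻¹ := by
          rw [hf, MonoidHom.comp_apply, map_inv]
        rw [this, autPerm_apply, inv_inv]
      rw [e1, e2, e3]
      show _ = (((l : G →* ℂˣ) (((conjAut G S hnorm s)⁻¹ : MulAut G) (conjAut G S hnorm s g0)) : ℂˣ) : ℂ) *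
        (χ : G → ℂ) (conjAut G S hnorm s g0)
      congr 2
      simp)
    (Nat.Coprime.coprime_dvd_left (Subgroup.card_range_dvd f)
      (Nat.Coprime.coprime_dvd_right hcardh hcop.symm))
    (Or.inr hsol) χ0 (by
      intro s
      have h1 : classInner (fun n : N.subgroupOf G => (f s χ0 : G → ℂ) n) (θ' : N.subgroupOf G → ℂ) ≠ 0 := by
        rw [hover, hS, ← hover]
        exact hχ0
      obtain ⟨l, hl, hl2⟩ := exists_linear_mul (N.subgroupOf G) hab χ0.2 (f s χ0).2 θ'.2 hχ0 h1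
      exact ⟨⟨l, hl⟩, Subtype.ext hl2⟩)
  refine ⟨h l χ0, ?_, ?_⟩
  · have e1 : (fun n : N.subgroupOf G => (h l χ0 : G → ℂ) n) = fun n : N.subgroupOf G => (χ0 : G → ℂ) n := by
      funext n
      show (((l : G →* ℂˣ) n : ℂˣ) : ℂ) * (χ0 : G → ℂ) n = _
      rw [l.2 n n.2, Units.val_one, one_mul]
    rw [← hover, e1]
    exact hχ0
  · rw [invariant_iff G S hnorm]
    exact hl

/-- "lies over" is transitive -/
theorem over_trans {M N : Type*} [Group M] [Group N] [Fintype M] [Fintype N] (i : N →* M) {X : M → ℂ}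
    (hX : IsCharacter M X) {θ₁ : M → ℂ} (h1 : IsIrrCharacter M θ₁) {θ : N → ℂ} (hθ : IsIrrCharacter N θ)
    (h : classInner X θ₁ ≠ 0) (h' : classInner (fun n : N => θ₁ (i n)) θ ≠ 0) :
    classInner (fun n : N => X (i n)) θ ≠ 0 := by
  classical
  have := finite_irr (G := M)
  have := Fintype.ofFinite (IrrCharacter M)
  obtain ⟨a, rfl⟩ := exists_nat_comb hX
  have e1 := classInner_sum_nsmul_irr a ⟨θ₁, h1⟩
  rw [e1] at h
  choose b hb using fun ψ : IrrCharacter M =>
    classInner_isNat (isCharacter_comp i (isIrr_isCharacter ψ.2)) (isIrr_isCharacter hθ)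
  have e2 : classInner (fun n : N => (∑ ψ : IrrCharacter M, a ψ • (ψ : M → ℂ)) (i n)) θ =
      ((∑ ψ : IrrCharacter M, a ψ * b ψ : ℕ) : ℂ) := by
    have e3 : (fun n : N => (∑ ψ : IrrCharacter M, a ψ • (ψ : M → ℂ)) (i n)) =
        ∑ ψ : IrrCharacter M, (a ψ : ℂ) • ((ψ : M → ℂ) ∘ i) := by
      funext n
      simp [Finset.sum_apply]
    rw [e3, classInner_sum_left]
    push_cast
    refine Finset.sum_congr rfl fun ψ _ => ?_
    rw [classInner_smul_left, hb]
  rw [e2, Nat.cast_ne_zero]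
  intro h0
  have h2 := Finset.sum_eq_zero_iff.1 h0 ⟨θ₁, h1⟩ (Finset.mem_univ _)
  rcases mul_eq_zero.1 h2 with h3 | h3
  · exact h (by rw [h3]; simp)
  · apply h'
    have h4 := hb ⟨θ₁, h1⟩
    rw [h3] at h4
    refine Eq.trans ?_ (h4.trans (by simp))
    rfl

/-- **Isaacs, Theorem 13.31**: invariant characters above, solvable quotient. -/
theorem exists_above {Γ : Type*} [Group Γ] [Finite Γ] (S N : Subgroup Γ) [Fintype N]
    (hNS : ∀ s ∈ S, ∀ n ∈ N, s * n * s⁻¹ ∈ N) (θ : IrrCharacter N)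
    (hinv : ∀ s ∈ S, ∀ g g' : N, (g' : Γ) = s * g * s⁻¹ → (θ : N → ℂ) g' = (θ : N → ℂ) g) (n : ℕ) :
    ∀ (G : Subgroup Γ) [Fintype G] (_ : ∀ s ∈ S, ∀ g ∈ G, s * g * s⁻¹ ∈ G) (hNG : N ≤ G)
    [hNn : (N.subgroupOf G).Normal] (_ : (N.relIndex G).Coprime (Nat.card S))
    (_ : Group.IsSolvable (G ⧸ N.subgroupOf G)) (_ : N.relIndex G ≤ n),
    ∃ χ : IrrCharacter G, classInner (fun n : N => (χ : G → ℂ) ⟨n, hNG n.2⟩) (θ : N → ℂ) ≠ 0 ∧
      (∀ s ∈ S, ∀ g g' : G, (g' : Γ) = s * g * s⁻¹ → (χ : G → ℂ) g' = (χ : G → ℂ) g) := by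
  classical
  induction n with
  | zero =>
    intro G _ hnorm hNG hNn hcop hsolv hle
    exact absurd (Nat.le_zero.1 hle) (Subgroup.index_ne_zero_of_finite (H := N.subgroupOf G))
  | succ n ih =>
    intro G _ hnorm hNG hNn hcop hsolv hle
    by_cases hab : ∀ x y : G, x * y * x⁻¹ * y⁻¹ ∈ N.subgroupOf G
    · exact exists_above_of_comm G S N hnorm hNG hNS hcop hab θ hinv
    let M : Subgroup Γ := N ⊔ ⁅G, G⁆
    have hNM : N ≤ M := le_sup_left
    have hMG : M ≤ G := sup_le hNG (by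
      rw [Subgroup.commutator_le]
      intro a ha b hb
      exact G.mul_mem (G.mul_mem (G.mul_mem ha hb) (G.inv_mem ha)) (G.inv_mem hb))
    have hcM : ∀ a ∈ G, ∀ b ∈ G, a * b * a⁻¹ * b⁻¹ ∈ M := fun a ha b hb =>
      (le_sup_right : ⁅G, G⁆ ≤ M) (Subgroup.commutator_mem_commutator ha hb)
    have hconj := conj_mem_of_normal hNG
    have hMn : (M.subgroupOf G).Normal := ⟨by
      intro m hm g
      have h1 : (g : Γ) * m * (g : Γ)⁻¹ = ((g : Γ) * m * (g : Γ)⁻¹ * (m : Γ)⁻¹) * m := by group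
      show ((g * m * g⁻¹ : G) : Γ) ∈ M
      push_cast
      rw [h1]
      exact M.mul_mem (hcM g g.2 m m.2) hm⟩
    have hNMn : (N.subgroupOf M).Normal := ⟨by
      intro m hm g
      exact hconj g (hMG g.2) m hm⟩
    have hMS : ∀ s ∈ S, ∀ g ∈ M, s * g * s⁻¹ ∈ M := by
      intro s hs
      have h1 : M ≤ M.comap (MulAut.conj s).toMonoidHom := by
        refine sup_le (fun n hn => hNM (hNS s hs n hn)) ?_
        rw [Subgroup.commutator_le]
        intro a ha b hb
        have h2 := hcM (s * a * s⁻¹) (hnorm s hs a ha) (s * b * s⁻¹) (hnorm s hs b hb)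
        rw [Subgroup.mem_comap]
        convert h2 using 1
        simp only [MulEquiv.toMonoidHom_eq_coe, MonoidHom.coe_coe, MulAut.conj_apply, commutatorElement_def]
        group
      intro g hg
      exact h1 hg
    have hmul := Subgroup.relIndex_mul_relIndex N M G hNM hMG
    have hpos : 0 < N.relIndex M := Nat.pos_of_ne_zero (Subgroup.index_ne_zero_of_finite (H := N.subgroupOf M))
    have hne : M ≠ G := by
      intro hMG'
      have hQ : Nontrivial (G ⧸ N.subgroupOf G) := by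
        by_contra hcon
        rw [not_nontrivial_iff_subsingleton] at hcon
        apply hab
        intro x y
        rw [← QuotientGroup.eq_one_iff]
        exact Subsingleton.elim _ _
      have hlt := Group.IsSolvable.commutator_lt_top_of_nontrivial (G ⧸ N.subgroupOf G)
      apply hlt.ne
      rw [eq_top_iff]
      intro q _
      obtain ⟨g, rfl⟩ := QuotientGroup.mk_surjective q
      -- the preimage of the commutator subgroup
      let π : G →* G ⧸ N.subgroupOf G := QuotientGroup.mk' _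
      have h1 : M ≤ ((commutator (G ⧸ N.subgroupOf G)).comap π).map G.subtype := by
        refine sup_le ?_ ?_
        · intro n hn
          refine ⟨⟨n, hNG hn⟩, ?_, rfl⟩
          have h2 : π ⟨n, hNG hn⟩ = 1 := (QuotientGroup.eq_one_iff _).2 hn
          show π ⟨n, hNG hn⟩ ∈ commutator (G ⧸ N.subgroupOf G)
          rw [h2]
          exact Subgroup.one_mem _
        · rw [Subgroup.commutator_le]
          intro a ha b hb
          refine ⟨(⟨a, ha⟩ : G) * ⟨b, hb⟩ * (⟨a, ha⟩ : G)⁻¹ * (⟨b, hb⟩ : G)⁻¹, ?_, rfl⟩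
          show π ((⟨a, ha⟩ : G) * ⟨b, hb⟩ * (⟨a, ha⟩ : G)⁻¹ * (⟨b, hb⟩ : G)⁻¹) ∈ commutator (G ⧸ N.subgroupOf G)
          simp only [map_mul, map_inv]
          exact Subgroup.commutator_mem_commutator (Subgroup.mem_top _) (Subgroup.mem_top _)
      have h3 : (g : Γ) ∈ M := hMG'.symm ▸ g.2
      obtain ⟨g', hg', hg2⟩ := h1 h3
      have h4 : g' = g := Subtype.ext hg2
      rw [← h4]
      exact hg'
    have hgt : 1 < M.relIndex G := by
      have h1 : M.relIndex G ≠ 1 := by
        intro h1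
        exact hne (le_antisymm hMG (Subgroup.relIndex_eq_one.1 h1))
      have h2 : M.relIndex G ≠ 0 := Subgroup.index_ne_zero_of_finite (H := M.subgroupOf G)
      omega
    have hlt : N.relIndex M ≤ n := by
      have : N.relIndex M < N.relIndex G := by
        rw [← hmul]
        exact lt_mul_of_one_lt_right hpos hgt
      omega
    have hsolvM : Group.IsSolvable (M ⧸ N.subgroupOf M) := by
      have hle' : N.subgroupOf M ≤ (N.subgroupOf G).comap (Subgroup.inclusion hMG) := fun x hx => hx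
      refine Group.isSolvable_of_isSolvable_injective
        (f := QuotientGroup.map (N.subgroupOf M) (N.subgroupOf G) (Subgroup.inclusion hMG) hle') ?_
      rw [injective_iff_map_eq_one]
      intro q hq
      obtain ⟨g, rfl⟩ := QuotientGroup.mk_surjective q
      rw [QuotientGroup.eq_one_iff]
      exact (QuotientGroup.eq_one_iff (N := N.subgroupOf G) (Subgroup.inclusion hMG g)).1 hq
    have : Fintype M := Fintype.ofFinite _
    obtain ⟨θ₁, hθ₁, hinv₁⟩ := ih M hMS hNM
      (Nat.Coprime.coprime_dvd_left (Dvd.intro _ hmul) hcop) hsolvM hlt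
    obtain ⟨χ, hχ, hinvχ⟩ := exists_above_of_comm G S M hnorm hMG hMS
      (Nat.Coprime.coprime_dvd_left (Dvd.intro_left _ hmul) hcop)
      (fun x y => hcM x x.2 y y.2) θ₁ hinv₁
    refine ⟨χ, ?_, hinvχ⟩
    exact over_trans (Subgroup.inclusion hNM) (X := fun m : M => (χ : G → ℂ) ⟨m, hMG m.2⟩)
      (isCharacter_comp (Subgroup.inclusion hMG) (isIrr_isCharacter χ.2)) θ₁.2 θ.2 hχ hθ₁

end Cfsg.Agent.H594.Glau
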