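import Mathlib
import Cfsg.Agent.H50.HerGoal
import Cfsg.Agent.H948.PSLMax
import Cfsg.Agent.H981.CentAlt5
import Cfsg.Agent.S2119
import Cfsg.Agent.H259.NatMod
import Cfsg.Agent.FastGrp
import Cfsg.Agent.Prune
set_option linter.all false
prune_inst 0x7f00000000000000000000000000000000000000000000000000000000000000000000000000000000000000000000000000000000000000000000000000000000000000000000000000000000000000003fffffffffffffffffffffffffffbeffbdffffffff
open scoped Cfsg.Agent.FastGrp

/-!
# Hering's theorem: dimension two (helper594)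
-/

set_option autoImplicit false

namespace Cfsg.Agent.H594.HerDimTwo

open Cfsg Cfsg.Agent.H50.Her Matrix Module Subgroup
open scoped commutatorElement
open Cfsg.Agent.ClassicalGeometry.PSL2Solvable Cfsg.Agent.ClassicalGeometry.PSL2Basic

universe u v w

/-- A perfect linear group in dimension two lies in `SL_2`. -/
theorem exists_toSL {p : ℕ} [Fact p.Prime] {L : Type u} {V : Type v} [Group L] [AddCommGroup V] [Module (ZMod p) V]
    (ρ : L →* (V ≃ₗ[ZMod p] V)) (hinj : Function.Injective ρ) (hV : finrank (ZMod p) V = 2)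
    (hperf : commutator L = ⊤) : ∃ σ : L →* SpecialLinearGroup (Fin 2) (ZMod p), Function.Injective σ := by
  have : Module.Finite (ZMod p) V := Module.finite_of_finrank_pos (by omega)
  let b : Basis (Fin 2) (ZMod p) V := Module.finBasisOfFinrankEq (ZMod p) V hV
  let φ : L →* Module.End (ZMod p) V :=
    { toFun := fun h => ((ρ h : V ≃ₗ[ZMod p] V) : Module.End (ZMod p) V)
      map_one' := by rw [map_one]; rfl
      map_mul' := fun x y => by rw [map_mul]; rfl }
  let ψ : L →* Matrix (Fin 2) (Fin 2) (ZMod p) :=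
    ((LinearMap.toMatrixAlgEquiv b).toRingEquiv.toMonoidHom : Module.End (ZMod p) V →* _).comp φ
  have hψ : Function.Injective ψ := by
    intro c d hcd
    have h2 : φ c = φ d := (LinearMap.toMatrixAlgEquiv b).injective hcd
    apply hinj
    ext v
    exact DFunLike.congr_fun h2 v
  let δ : L →* (ZMod p)ˣ := (Units.map (Matrix.detMonoidHom (n := Fin 2) (R := ZMod p))).comp ψ.toHomUnits
  have hδ : ∀ x, δ x = 1 := by
    intro x
    have h1 : commutator L ≤ δ.ker := by
      rw [commutator_def, Subgroup.commutator_le]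
      intro a _ c _
      rw [MonoidHom.mem_ker, map_commutatorElement, commutatorElement_eq_one_iff_mul_comm, mul_comm]
    rw [hperf] at h1
    exact h1 (Subgroup.mem_top x)
  have hdet : ∀ x, (ψ x).det = 1 := fun x => congrArg Units.val (hδ x)
  refine ⟨{ toFun := fun x => ⟨ψ x, hdet x⟩, map_one' := ?_, map_mul' := ?_ }, ?_⟩
  · apply Subtype.ext
    show ψ 1 = 1
    rw [map_one]
  · intro x y
    apply Subtype.ext
    show ψ (x * y) = ψ x * ψ y
    rw [map_mul]
  · intro x y hxy
    exact hψ (congrArg Subtype.val hxy)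

/-- In odd characteristic an involution of `SL_2` is central. -/
theorem central_of_sq {p : ℕ} [Fact p.Prime] (hp2 : p ≠ 2) (x : SpecialLinearGroup (Fin 2) (ZMod p)) (hx : x * x = 1) :
    ∀ y, x * y = y * x := by
  have h2 : (2 : ZMod p) ≠ 0 := by
    intro h
    have h1 : ((2 : ℕ) : ZMod p) = 0 := by exact_mod_cast h
    rw [ZMod.natCast_eq_zero_iff] at h1
    have := (Nat.prime_dvd_prime_iff_eq Fact.out Nat.prime_two).1 h1
    exact hp2 this
  have hM : (x : Matrix (Fin 2) (Fin 2) (ZMod p)) * (x : Matrix (Fin 2) (Fin 2) (ZMod p)) = 1 := congrArg Subtype.val hx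
  have hdet : (x : Matrix (Fin 2) (Fin 2) (ZMod p)).det = 1 := x.2
  rw [Matrix.det_fin_two] at hdet
  have e00 := congrFun (congrFun hM 0) 0
  have e01 := congrFun (congrFun hM 0) 1
  have e10 := congrFun (congrFun hM 1) 0
  have e11 := congrFun (congrFun hM 1) 1
  rw [Matrix.mul_apply, Fin.sum_univ_two, Matrix.one_apply_eq] at e00 e11
  rw [Matrix.mul_apply, Fin.sum_univ_two, Matrix.one_apply_ne (by decide)] at e01 e10
  set a := (x : Matrix (Fin 2) (Fin 2) (ZMod p)) 0 0 with ha
  set b := (x : Matrix (Fin 2) (Fin 2) (ZMod p)) 0 1 with hb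
  set c := (x : Matrix (Fin 2) (Fin 2) (ZMod p)) 1 0 with hc
  set d := (x : Matrix (Fin 2) (Fin 2) (ZMod p)) 1 1 with hd
  have hdet' : a * d - b * c = 1 := hdet
  -- `(a + d) b = 0 = (a + d) c` and `a + d ≠ 0`
  have had : a + d ≠ 0 := by
    intro h
    have h1 : d = -a := by linear_combination h
    rw [h1] at hdet'
    have h3 : (2 : ZMod p) = 0 := by linear_combination -e00 - hdet'
    exact h2 h3
  have hb0 : b = 0 := by
    have : (a + d) * b = 0 := by linear_combination e01
    exact (mul_eq_zero.1 this).resolve_left had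
  have hc0 : c = 0 := by
    have : (a + d) * c = 0 := by linear_combination e10
    exact (mul_eq_zero.1 this).resolve_left had
  have had' : a = d := by
    rw [hb0, hc0] at e00 e11
    have h3 : (a - d) * (a + d) = 0 := by linear_combination e00 - e11
    exact sub_eq_zero.1 ((mul_eq_zero.1 h3).resolve_right had)
  intro y
  apply Subtype.ext
  show (x : Matrix (Fin 2) (Fin 2) (ZMod p)) * (y : Matrix (Fin 2) (Fin 2) (ZMod p)) =
    (y : Matrix (Fin 2) (Fin 2) (ZMod p)) * (x : Matrix (Fin 2) (Fin 2) (ZMod p))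
  have hxs : (x : Matrix (Fin 2) (Fin 2) (ZMod p)) = a • (1 : Matrix (Fin 2) (Fin 2) (ZMod p)) := by
    ext i j
    fin_cases i <;> fin_cases j
    · simp [ha]
    · simpa [hb] using hb0
    · simpa [hc] using hc0
    · simp only [Matrix.smul_apply]
      show (x : Matrix (Fin 2) (Fin 2) (ZMod p)) 1 1 = a • (1 : Matrix (Fin 2) (Fin 2) (ZMod p)) 1 1
      rw [← hd, ← had', Matrix.one_apply_eq, smul_eq_mul, mul_one]
  rw [hxs, smul_mul_assoc, one_mul, mul_smul_comm, mul_one]

theorem comm_cent {G : Type*} [Group G] {a b z z' : G} (hz : ∀ g, g * z = z * g) (hz' : ∀ g, g * z' = z' * g) :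
    ⁅a * z, b * z'⁆ = ⁅a, b⁆ := by
  rw [commutatorElement_def, commutatorElement_def]
  have h1 : a * z * (b * z') * (a * z)⁻¹ * (b * z')⁻¹ = a * (z * (b * z')) * z⁻¹ * a⁻¹ * z'⁻¹ * b⁻¹ := by group
  rw [h1, ← hz (b * z')]
  have h2 : a * (b * z' * z) * z⁻¹ * a⁻¹ * z'⁻¹ * b⁻¹ = a * b * (z' * a⁻¹) * z'⁻¹ * b⁻¹ := by group
  rw [h2, ← hz' a⁻¹]
  group

theorem card_mulAut_alt : Nat.card (MulAut (alternatingGroup (Fin 5))) = 120 := by
  rw [← Nat.card_congr (MulEquiv.ofBijective _ (S2119.result 5 (by norm_num) (by norm_num))).toEquiv,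
    Nat.card_perm, Nat.card_fin]
  decide

/-- The arithmetic of the row `A_5`. -/
theorem arith {p : ℕ} (hp : p.Prime) (h1 : p ^ 2 - 1 ∣ (p ^ 1 - 1) * 120) (h2 : 120 ∣ p * (p ^ 2 - 1)) :
    p = 5 ∨ p = 11 ∨ p = 19 ∨ p = 29 ∨ p = 59 := by
  have hp2 := hp.two_le
  have h3 : p ^ 2 - 1 = (p - 1) * (p + 1) := by
    obtain ⟨k, rfl⟩ : ∃ k, p = k + 1 := ⟨p - 1, by omega⟩
    rw [Nat.add_sub_cancel]
    apply Nat.sub_eq_of_eq_add
    ring
  rw [h3, pow_one] at h1
  have h4 : p + 1 ∣ 120 := Nat.dvd_of_mul_dvd_mul_left (by omega) h1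
  have h5 : p + 1 ∈ Nat.divisors 120 := Nat.mem_divisors.2 ⟨h4, by norm_num⟩
  have h6 : Nat.divisors 120 = {1, 2, 3, 4, 5, 6, 8, 10, 12, 15, 20, 24, 30, 40, 60, 120} := by decide +kernel
  rw [h6] at h5
  simp only [Finset.mem_insert, Finset.mem_singleton] at h5
  rcases h5 with h | h | h | h | h | h | h | h | h | h | h | h | h | h | h | h
  all_goals (try omega)
  all_goals (obtain rfl : p = _ := Nat.succ.inj h)
  all_goals (revert hp h2; norm_num)

variable {p d b r R : ℕ} {L : Type u} {V : Type v} {S : Type w} [Group L] [AddCommGroup V] [Module (ZMod p) V] [Group S]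
  {π : L →* S} {ρ : L →* (V ≃ₗ[ZMod p] V)}

/-- **Dimension two.** -/
theorem row_dim_two (h : Cfg p d b L V S π ρ) (hd : d = 2) : HerType p d b L := by
  subst hd
  have : Fact p.Prime := ⟨h.prime⟩
  have := h.finL
  have := h.finV
  have := h.simple
  have hb1 : b = 1 := by
    have h1 := h.b_pos
    have h2 := h.b_lt
    omega
  subst hb1
  have hV : finrank (ZMod p) V = 2 := by
    have h1 := h.card_V
    rw [Module.natCard_eq_pow_finrank (K := ZMod p), Nat.card_zmod] at h1
    exact Nat.pow_right_injective h.prime.two_le h1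
  obtain ⟨σ, hσ⟩ := exists_toSL ρ h.inj hV h.perf
  have hSfin : Finite S := Finite.of_surjective π h.surj
  -- `L` is not solvable
  have hSns : ¬ Group.IsSolvable S := by
    intro hs
    obtain ⟨x, y, hxy⟩ := h.noncomm
    exact hxy ((IsSimpleGroup.comm_iff_isSolvable.2 hs) x y)
  have hLns : ¬ Group.IsSolvable L := fun hs => hSns (Group.isSolvable_of_surjective h.surj)
  set τ : L →* ProjectiveSpecialLinearGroup (Fin 2) (ZMod p) :=
    (QuotientGroup.mk' (Subgroup.center (SpecialLinearGroup (Fin 2) (ZMod p)))).comp σ with hτ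
  have hker : τ.ker ≤ center L := by
    intro x hx
    have h1 : σ x ∈ Subgroup.center (SpecialLinearGroup (Fin 2) (ZMod p)) :=
      (QuotientGroup.eq_one_iff _).1 hx
    rw [Subgroup.mem_center_iff] at h1 ⊢
    intro y
    exact hσ (by rw [map_mul, map_mul]; exact h1 (σ y))
  have hHns : ¬ Group.IsSolvable τ.range := by
    intro hs
    apply hLns
    have hc : Group.IsSolvable (center L) := Group.isSolvable_of_comm fun a b => (Subtype.ext (Subgroup.mem_center_iff.1 b.2 a))
    have hk : Group.IsSolvable τ.ker := Group.isSolvable_of_isSolvable_injective (Subgroup.inclusion_injective hker)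
    exact Group.isSolvable_of_ker_le_range τ.ker.subtype τ.rangeRestrict (by
      rw [MonoidHom.ker_rangeRestrict, Subgroup.range_subtype])
  have key : Nat.card τ.range ∣ 72 → False := fun h72 =>
    hHns (Cfsg.Agent.LieClassical.Order72.isSolvable_of_card_dvd h72)
  -- `p ≥ 4`
  have hp4 : 3 < p := by
    by_contra hlt
    have h1 : Nat.card τ.range ∣ Nat.card (SpecialLinearGroup (Fin 2) (ZMod p)) := by
      rw [← Nat.card_congr (QuotientGroup.quotientKerEquivRange τ).toEquiv]
      exact (Subgroup.card_quotient_dvd_card _).trans (Subgroup.card_dvd_of_injective σ hσ)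
    rw [card_SL2, ZMod.card] at h1
    have h2 : p = 2 ∨ p = 3 := by
      have := h.prime.two_le
      omega
    apply key
    rcases h2 with rfl | rfl
    · exact h1.trans (by norm_num)
    · exact h1.trans (by norm_num)
  -- the case of the full group
  have full : τ.range = ⊤ → HerType p 2 1 L := by
    intro htop
    have hperf : commutator (SpecialLinearGroup (Fin 2) (ZMod p)) = ⊤ :=
      H259.NatMod.commutator_eq_top (by rw [ZMod.card]; exact hp4)
    have hsurj : Function.Surjective σ := by
      rw [← MonoidHom.range_eq_top, ← top_le_iff, ← hperf, _root_.commutator_def, Subgroup.commutator_le]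
      intro x _ y _
      have hz : ∀ x : SpecialLinearGroup (Fin 2) (ZMod p), ∃ (l : L)
          (z : SpecialLinearGroup (Fin 2) (ZMod p)), z ∈ Subgroup.center (SpecialLinearGroup (Fin 2) (ZMod p)) ∧
          x = σ l * z := by
        intro x
        have h1 : (QuotientGroup.mk' (Subgroup.center (SpecialLinearGroup (Fin 2) (ZMod p)))) x ∈ τ.range := by
          rw [htop]; exact Subgroup.mem_top _
        obtain ⟨l, hl⟩ := h1
        refine ⟨l, (σ l)⁻¹ * x, ?_, by group⟩
        exact QuotientGroup.eq.1 hl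
      obtain ⟨l, z, hz1, rfl⟩ := hz x
      obtain ⟨l', z', hz1', rfl⟩ := hz y
      refine ⟨⁅l, l'⁆, ?_⟩
      rw [map_commutatorElement]
      exact (comm_cent (Subgroup.mem_center_iff.1 hz1) (Subgroup.mem_center_iff.1 hz1')).symm
    refine Or.inl ⟨2, 1, ZMod p, inferInstance, inferInstance, rfl, dvd_rfl, by rw [ZMod.card, pow_one], le_rfl,
      Or.inl ⟨MulEquiv.ofBijective σ ⟨hσ, hsurj⟩⟩⟩
  rcases S0799.result (F := ZMod p) (q := p) (ZMod.card p) p τ.range with
    ⟨k, -, ⟨hc, -⟩ | ⟨⟨e⟩⟩⟩ | ⟨P, K, hK, ⟨e⟩⟩ | ⟨⟨e⟩⟩ | ⟨⟨e⟩⟩ | ⟨⟨e⟩⟩ | ⟨K, _, _, m, hm, hiso⟩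
  · exact absurd (Group.isSolvable_of_comm (IsCyclic.isMulCommutative (α := τ.range)).is_comm.comm) hHns
  · exfalso
    have := isSolvable_dihedral k
    exact hHns (Group.isSolvable_of_isSolvable_injective (f := e.toMonoidHom) e.injective)
  · exfalso
    have := isSolvable_of_le_normalizer p P K hK
    exact hHns (Group.isSolvable_of_isSolvable_injective (f := e.toMonoidHom) e.injective)
  · exfalso
    apply key
    rw [Nat.card_congr e.toEquiv, Nat.card_eq_fintype_card,
      show Fintype.card (alternatingGroup (Fin 4)) = 12 by decide +kernel]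
    norm_num
  · exfalso
    apply key
    rw [Nat.card_congr e.toEquiv, Nat.card_eq_fintype_card,
      show Fintype.card (Equiv.Perm (Fin 4)) = 24 by decide +kernel]
    norm_num
  · -- `A_5`
    have hcker : center L = τ.ker := by
      apply le_antisymm _ hker
      intro x hx
      have h1 : τ.rangeRestrict x ∈ center τ.range := by
        rw [Subgroup.mem_center_iff]
        rintro ⟨_, y, rfl⟩
        have h2 := Subgroup.mem_center_iff.1 hx y
        apply Subtype.ext
        show τ y * τ x = τ x * τ y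
        rw [← map_mul, ← map_mul, h2]
      have h2 : e (τ.rangeRestrict x) ∈ center (alternatingGroup (Fin 5)) := by
        rw [Subgroup.mem_center_iff] at h1 ⊢
        intro y
        obtain ⟨y, rfl⟩ := e.surjective y
        rw [← map_mul, ← map_mul, h1]
      rw [alternatingGroup.center_eq_bot (by simp), Subgroup.mem_bot, EmbeddingLike.map_eq_one_iff] at h2
      exact congrArg Subtype.val h2
    have hquot : Nonempty (L ⧸ center L ≃* alternatingGroup (Fin 5)) :=
      ⟨(QuotientGroup.quotientMulEquivOfEq hcker).trans ((QuotientGroup.quotientKerEquivRange τ).trans e)⟩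
    obtain ⟨e'⟩ := hquot
    have eS : S ≃* alternatingGroup (Fin 5) :=
      ((QuotientGroup.quotientKerEquivOfSurjective π h.surj).symm.trans
        (QuotientGroup.quotientMulEquivOfEq h.cent)).trans e'
    have hAut : Nat.card (MulAut S) = 120 := by
      rw [Nat.card_congr (MulAut.congr eS).toEquiv, card_mulAut_alt]
    have hnum := h.num
    rw [hAut] at hnum
    rcases H981.CentAlt5.alt5 h.perf e' with hc | ⟨⟨f⟩⟩
    · exfalso
      have h60 : Nat.card L = 60 := by
        have h1 : Nat.card (L ⧸ center L) = 60 := by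
          rw [Nat.card_congr e'.toEquiv, Nat.card_eq_fintype_card]
          decide +kernel
        have h2 := Subgroup.card_eq_card_quotient_mul_card_subgroup (center L)
        rw [h1, hc, Subgroup.card_bot] at h2
        exact h2
      have : Fact (Nat.Prime 2) := ⟨Nat.prime_two⟩
      obtain ⟨x, hx⟩ := exists_prime_orderOf_dvd_card' (G := L) 2 (by rw [h60]; norm_num)
      have hx2 : x * x = 1 := by rw [← sq, ← hx, pow_orderOf_eq_one]
      have h3 : x ∈ center L := by
        rw [Subgroup.mem_center_iff]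
        intro y
        apply hσ
        rw [map_mul, map_mul]
        exact (central_of_sq (by omega) (σ x) (by rw [← map_mul, hx2, map_one]) (σ y)).symm
      rw [hc, Subgroup.mem_bot] at h3
      rw [h3, orderOf_one] at hx
      omega
    · have h120 : Nat.card L = 120 := by
        have : Fact (Nat.Prime 5) := ⟨by norm_num⟩
        rw [Nat.card_congr f.toEquiv, card_SL2, ZMod.card]
        norm_num
      have hdvd : 120 ∣ p * (p ^ 2 - 1) := by
        have h1 := Subgroup.card_dvd_of_injective σ hσ
        rwa [h120, card_SL2, ZMod.card] at h1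
      rcases arith h.prime hnum hdvd with rfl | hp
      · refine Or.inl ⟨2, 1, ZMod 5, inferInstance, inferInstance, rfl, dvd_rfl, by rw [ZMod.card, pow_one], le_rfl,
          Or.inl ⟨f⟩⟩
      · exact Or.inr (Or.inl ⟨Or.inl ⟨rfl, hp⟩, ⟨f⟩⟩)
  · apply full
    have hm1 : m = 1 := by
      have hK1 : 1 < Fintype.card K := Fintype.one_lt_card
      exact (Nat.Prime.eq_one_of_pow (hm ▸ h.prime : (Fintype.card K ^ m).Prime))
    rw [hm1, pow_one] at hm
    exact H948.PSLMax.eq_top_of_card_eq τ.range (by rw [hm, ZMod.card]) hiso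

end Cfsg.Agent.H594.HerDimTwo
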